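import Groth.Agent.Lib.Flag27.TorsionPts
import Groth.Agent.Lib.TorusPrim24.Criterion
import Groth.Agent.Lib.CentMT14.Reductive
import Groth.Agent.Lib.TorusNorm25.Torus
import Groth.Agent.Lib.Rigidity.SemiAbelian
import Groth.Agent.Lib.EssFree.Transporter
import Groth.Agent.Lib.QuotTorus14.Split
import Groth.Agent.Lib.MultLift16.Basic

/-!
# Points over an algebraically closed field: lifting along fppf epimorphisms, torsion points of tori
-/

set_option autoImplicit false
set_option linter.all false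
set_option backward.isDefEq.respectTransparency false

universe u

open CategoryTheory CategoryTheory.Limits MonoidalCategory CartesianMonoidalCategory MonObj GrpObj AlgebraicGeometry
open WithConv
open scoped TensorProduct

namespace GrothLib.OneMotFaith14

open GrothLib.MultHopf14 GrothLib.CentMT14

variable {k : Type u} [Field k] [IsAlgClosed k]

local notation "S₀" => Spec (CommRingCat.of k)

/-- An fppf covering of a geometric point has a section. -/
theorem exists_section_fppf {R : Presieve S₀} (hR : R ∈ Scheme.fppfPrecoverage S₀) :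
    ∃ (U : Scheme.{u}) (u : U ⟶ S₀) (s : S₀ ⟶ U), R u ∧ s ≫ u = 𝟙 _ := by
  obtain ⟨hs, hP⟩ := hR
  suffices key : ∀ (U : Scheme.{u}) (g : U ⟶ S₀), R g → U →
      ∃ (U : Scheme.{u}) (u : U ⟶ S₀) (s : S₀ ⟶ U), R u ∧ s ≫ u = 𝟙 _ by
    obtain ⟨Y, g, ⟨hu⟩, z, -⟩ := hs (IsLocalRing.closedPoint k)
    exact key _ _ hu z
  intro Y g hu z
  haveI : LocallyOfFinitePresentation g := (hP hu).2
  haveI : LocallyOfFiniteType g := inferInstance
  haveI : JacobsonSpace Y := LocallyOfFiniteType.jacobsonSpace g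
  obtain ⟨w, -, hw⟩ : ∃ w : Y, w ∈ Set.univ ∧ w ∈ closedPoints Y :=
    nonempty_inter_closedPoints ⟨z, trivial⟩ isClosed_univ.isLocallyClosed
  exact ⟨Y, g, pointOfClosedPoint g w hw, hu, pointOfClosedPoint_comp g w hw⟩

/-- Over an algebraically closed field an fppf cover of the base is split. -/
theorem sieve_section {R : Sieve (Over.mk (𝟙 S₀))} (hR : R ∈ MultLift16.top S₀ (Over.mk (𝟙 S₀))) :
    R (𝟙 _) := by
  have h := (GrothendieckTopology.mem_over_iff _ R).1 hR
  obtain ⟨P, hP, hPR⟩ := Precoverage.mem_toGrothendieck_iff_of_isStableUnderComposition.1 h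
  obtain ⟨U, u, s, hu, hsu⟩ := exists_section_fppf hP
  have hu' : R (Over.homMk u : Over.mk (u ≫ 𝟙 S₀) ⟶ Over.mk (𝟙 S₀)) := (Sieve.overEquiv_iff R u).1 (hPR U u hu)
  have hj : (Over.homMk s (by show s ≫ u ≫ 𝟙 S₀ = 𝟙 S₀; rw [Category.comp_id, hsu]) :
      Over.mk (𝟙 S₀) ⟶ Over.mk (u ≫ 𝟙 S₀)) ≫ (Over.homMk u : Over.mk (u ≫ 𝟙 S₀) ⟶ Over.mk (𝟙 S₀)) = 𝟙 _ := Over.OverMorphism.ext hsu
  rw [← hj]
  exact R.downward_closed hu' _

/-- A rational point of the target of an epimorphism of sheaves of points lifts. -/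
theorem exists_lift {M M'' : Over S₀} [GrpObj M] [IsCommMonObj M] [GrpObj M''] [IsCommMonObj M'']
    (π : M ⟶ M'') [IsMonHom π] (hπ : Epi (CGrpSh.ptsMap Scheme.fppfPrecoverage π))
    (y : Over.mk (𝟙 S₀) ⟶ M'') : ∃ x : Over.mk (𝟙 S₀) ⟶ M, x ≫ π = y := by
  obtain ⟨R, hR, h⟩ := MultLift16.lift_locally π hπ _ y
  obtain ⟨x, hx⟩ := h (𝟙 _) (sieve_section hR)
  exact ⟨x, by rw [hx, Category.id_comp]⟩

theorem isAffine_of_isTorus {T : Over S₀} [GrpObj T] (hT : Red.IsTorus T) :
    IsAffine T.left ∧ LocallyOfFiniteType T.hom := by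
  have hM := QuotTorus14.isMultTypeFT_of_charts (DiagGrp.hasChartsFpqc_of_isTorus hT)
  haveI := EssFree.isAffineHom_multTypeFT T hM
  haveI := TorusNorm25.smooth_of_isTorus hT
  exact ⟨isAffine_of_isAffineHom T.hom, inferInstance⟩

/-- The functions of a torus over an algebraically closed field are diagonalisable. -/
theorem isDiagonalizable_torus {A : Type u} [CommRing A] [HopfAlgebra k A] {G : Over S₀} [GrpObj G]
    (e : Grp.mk (specGrp (R := k) A) ≅ Grp.mk G) (hG : Red.IsTorus G) : HopfRep.IsDiagonalizable k A := by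
  obtain ⟨L, _, _, _, r, ⟨eL⟩⟩ := Rigidity.exists_split hG
  let q := Spec.map (CommRingCat.ofHom (algebraMap k L))
  let e' : Grp.mk (Red.bc (q ≫ 𝟙 S₀) (specGrp (R := k) A)) ≅ Grp.mk (Red.DS (Spec (CommRingCat.of L)) (Fin r → ℤ)) :=
    eqToIso (by rw [Category.comp_id]; rfl) ≪≫ (Over.pullback q).mapGrp.mapIso e ≪≫ eL
  obtain ⟨g, hg⟩ := exists_frame_of_chart (q := 𝟙 S₀) e' (isUniv_specPt A) (isComul_specPt A)
  have hL : HopfRep.IsDiagonalizable L (L ⊗[k] A) := Submodule.eq_top_iff'.2 fun a => by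
    obtain ⟨z, rfl⟩ := hg.equiv.toLinearEquiv.surjective a
    induction z using MonoidAlgebra.induction_on with
    | of m => exact Submodule.subset_span ((MonoidAlgebra.isGroupLikeElem_single_one m).map hg.equiv)
    | add p q hp hq => rw [map_add]; exact add_mem hp hq
    | smul c p hp => rw [map_smul]; exact Submodule.smul_mem _ c hp
  haveI : Coalgebra.IsCocomm k A := NoPrim.isCocomm_of_isDiagonalizable L hL
  exact NoPrim.isDiagonalizable_of_isAlgClosed (TorusPrim24.noPrimElt_of_isTorus e hG)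

/-- A homomorphism of tori killing the rational torsion points is trivial. -/
theorem torus_hom_eq_one [CharZero k] {T T' : Over S₀} [GrpObj T] [GrpObj T']
    (hT : Red.IsTorus T) (hT' : Red.IsTorus T') (v : T ⟶ T') [IsMonHom v]
    (h : ∀ (m : ℕ), 1 ≤ m → ∀ t : Over.mk (𝟙 S₀) ⟶ T, t ^ m = 1 → t ≫ v = 1) : v = 1 := by
  obtain ⟨hTa, hTf⟩ := isAffine_of_isTorus hT
  haveI := hTa; haveI := hTf
  obtain ⟨hTa', hTf'⟩ := isAffine_of_isTorus hT'
  haveI := hTa'; haveI := hTf'
  haveI := TorusNorm25.smooth_of_isTorus hT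
  haveI := (Rigidity.smooth_connected_of_isTorus T hT).2
  obtain ⟨A, _, _, ⟨eG⟩⟩ := exists_hopf T' (isAffineHom_of_isAffine _)
  obtain ⟨K, _, _, ⟨eT⟩⟩ := exists_hopf T (isAffineHom_of_isAffine _)
  let i : specGrp (R := k) K ≅ T := (Grp.forget _).mapIso eT
  haveI : IsIso i.hom.left := inferInstanceAs (IsIso ((Over.forget _).map i.hom))
  haveI : IsIso i.inv.left := inferInstanceAs (IsIso ((Over.forget _).map i.inv))
  haveI : Algebra.FiniteType k K := by
    have h : LocallyOfFiniteType (specGrp (R := k) K).hom := by rw [← Over.w i.hom]; infer_instance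
    exact RingHom.finiteType_algebraMap.1 ((HasRingHomProperty.Spec_iff (P := @LocallyOfFiniteType)).1 h)
  haveI : IsDomain K := by
    haveI := GrothLib.Rigidity.irreducibleSpace_of_connected T
    haveI : IsReduced T.left := GrothLib.RedSmooth.isReduced_of_smooth T.hom
    haveI : IsIntegral T.left := isIntegral_of_irreducibleSpace_of_isReduced _
    haveI : IsIntegral (Spec (CommRingCat.of K)) := .of_isIso i.inv.left
    exact (affine_isIntegral_iff (CommRingCat.of K)).1 inferInstance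
  have hK : HopfRep.IsDiagonalizable k K := isDiagonalizable_torus eT hT
  -- the homomorphism on functions
  let eT' := eT.hom
  let q : (hopfSpec (CommRingCat.of k)).obj (Opposite.op (CommHopfAlgCat.of k K)) ⟶
      (hopfSpec (CommRingCat.of k)).obj (Opposite.op (CommHopfAlgCat.of k A)) := eT.hom ≫ Grp.ofHom v ≫ eG.inv
  haveI : (hopfSpec (CommRingCat.of k)).Full := hopfSpec.instFull
  obtain ⟨ψ, hψ⟩ := (hopfSpec (CommRingCat.of k)).map_surjective q
  let θ : A →ₐc[k] K := ψ.unop.hom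
  have hθ : specMap θ = i.hom ≫ v ≫ eG.inv.hom.hom :=
    Over.OverMorphism.ext (congrArg (fun w => w.hom.hom.left) hψ)
  have hθ1 : ∀ a, θ a = algebraMap k K (Coalgebra.counit (R := k) a) := by
    intro a
    rw [← sub_eq_zero]
    refine Flag27.eq_zero_of_torsion hK (ℓ := 2) one_lt_two (by norm_num) _ fun N φ hφ => ?_
    let b : Over.mk (𝟙 S₀) ⟶ (Spec (CommRingCat.of k)).asOver (Spec (CommRingCat.of k)) :=
      Over.homMk (𝟙 _) (by
        show 𝟙 _ ≫ Spec.map (CommRingCat.ofHom (algebraMap k k)) = 𝟙 _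
        rw [Category.id_comp, Algebra.algebraMap_self]
        exact Spec.map_id _)
    haveI : IsMonHom i.hom := eT.hom.hom.isMonHom_hom
    haveI : IsMonHom eG.inv.hom.hom := eG.inv.hom.isMonHom_hom
    let p : Over.mk (𝟙 S₀) ⟶ T := b ≫ (Spec.mapMulEquiv φ : _ ⟶ specGrp (R := k) K) ≫ i.hom
    have hp : p ^ 2 ^ N = 1 := by
      simp only [p]
      rw [← MonObj.comp_pow, ← MonObj.pow_comp, ← map_pow, hφ, map_one, MonObj.one_comp, MonObj.comp_one]
    have h2 := congrArg (fun w : Over.mk (𝟙 S₀) ⟶ T' => w ≫ eG.inv.hom.hom) (h _ Nat.one_le_two_pow p hp)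
    simp only [p, Category.assoc, MonObj.one_comp] at h2
    rw [← hθ] at h2
    have h3 : Spec.map (CommRingCat.ofHom φ.ofConv.toRingHom) ≫ Spec.map (CommRingCat.ofHom (θ : A →+* K)) =
        Spec.map (CommRingCat.ofHom (Bialgebra.counitAlgHom k A).toRingHom) := by
      have h4 := congrArg Over.Hom.left h2
      rw [Over.comp_left, Over.comp_left, one_left] at h4
      exact (Category.id_comp _).symm.trans (h4.trans (Category.id_comp _))
    rw [← Spec.map_comp, ← CommRingCat.ofHom_comp] at h3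
    have h5 : φ.ofConv (θ a) = Coalgebra.counit (R := k) a :=
      DFunLike.congr_fun (congrArg CommRingCat.Hom.hom (Spec.map_injective h3)) a
    show φ.ofConv (θ a - algebraMap k K (Coalgebra.counit (R := k) a)) = 0
    rw [map_sub, h5, AlgHom.commutes]
    exact sub_self _
  have h6 : specMap θ = 1 := by
    refine Over.OverMorphism.ext ?_
    rw [one_left, specMap_left]
    show _ = Spec.map (CommRingCat.ofHom (algebraMap k K)) ≫ Spec.map _
    rw [← Spec.map_comp, ← CommRingCat.ofHom_comp]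
    exact congrArg (fun r => Spec.map (CommRingCat.ofHom r)) (RingHom.ext fun b => hθ1 b)
  have he : eG.inv.hom.hom ≫ eG.hom.hom.hom = 𝟙 T' := congrArg (fun w => w.hom.hom) eG.inv_hom_id
  haveI : IsMonHom eG.hom.hom.hom := eG.hom.hom.isMonHom_hom
  rw [hθ] at h6
  have h7 := congrArg (fun w => w ≫ eG.hom.hom.hom) h6
  simp only [Category.assoc, he, Category.comp_id, MonObj.one_comp] at h7
  rw [← cancel_epi i.hom, h7, MonObj.comp_one]

/-- Multiplication by a positive integer on a torus is surjective. -/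
theorem surjective_pow_torus {G : Over S₀} [GrpObj G] (hG : Red.IsTorus G) {n : ℕ} (hn : 0 < n) :
    Surjective ((𝟙 G) ^ n).left := by
  refine ⟨fun y => ?_⟩
  let K₀ := AlgebraicClosure (G.left.residueField y)
  let t₀ : Spec (CommRingCat.of K₀) ⟶ G.left :=
    Spec.map (CommRingCat.ofHom (algebraMap (G.left.residueField y) K₀)) ≫ G.left.fromSpecResidueField y
  obtain ⟨L, _, _, r, ⟨eL⟩⟩ := RankComm14.exists_split_over hG (t₀ ≫ G.hom)
  let σ : Spec (CommRingCat.of L) ⟶ S₀ :=
    Spec.map (CommRingCat.ofHom (algebraMap K₀ L)) ≫ t₀ ≫ G.hom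
  let K := AlgebraicClosure L
  let q : Spec (CommRingCat.of K) ⟶ Spec (CommRingCat.of L) := Spec.map (CommRingCat.ofHom (algebraMap L K))
  let T : Over (Spec (CommRingCat.of L)) := Over.mk q
  let x : (Over.map σ).obj T ⟶ G :=
    Over.homMk (q ≫ Spec.map (CommRingCat.ofHom (algebraMap K₀ L)) ≫ t₀) (by simp [T, σ])
  let iL : Red.bc σ G ≅ Red.DS (Spec (CommRingCat.of L)) (Fin r → ℤ) := (Grp.forget _).mapIso eL
  haveI : IsMonHom iL.hom := eL.hom.hom.isMonHom_hom
  obtain ⟨χ, hχ⟩ := (DiagGrp.dsPoint (Fin r → ℤ) q).surjective (DiagGrp.bcPoint σ G T x ≫ iL.hom)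
  have hroot : ∀ j : Fin r, ∃ u : Kˣ, (u : K) ^ n = χ (Multiplicative.ofAdd (Pi.single j 1)) := fun j => by
    obtain ⟨z, hz⟩ := IsAlgClosed.exists_pow_nat_eq (χ (Multiplicative.ofAdd (Pi.single j 1))) hn
    have hu : IsUnit z := by
      rw [← isUnit_pow_iff hn.ne', hz]
      exact (Group.isUnit _).map χ
    exact ⟨hu.unit, hz⟩
  choose u hu using hroot
  let χ' : Multiplicative (Fin r → ℤ) →* K :=
    { toFun := fun v => ((∏ j, u j ^ (v.toAdd j) : Kˣ) : K)
      map_one' := by simp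
      map_mul' := fun v w => by simp [zpow_add, Finset.prod_mul_distrib] }
  have hpow : χ' ^ n = χ := by
    refine MonoidHom.ext fun v => ?_
    have key : ∀ v : Fin r → ℤ, (χ (Multiplicative.ofAdd v)) = ((∏ j, (u j ^ n) ^ (v j) : Kˣ) : K) := by
      intro v
      let χu : Multiplicative (Fin r → ℤ) →* Kˣ := χ.toHomUnits
      have h1 : χu (Multiplicative.ofAdd v) = ∏ j, χu (Multiplicative.ofAdd (Pi.single j 1)) ^ (v j) := by
        simp_rw [← map_zpow, ← map_prod, ← ofAdd_zsmul, ← ofAdd_sum]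
        congr 2
        ext l
        simp [Finset.sum_apply, Pi.single_apply]
      have h2 : ∀ j, χu (Multiplicative.ofAdd (Pi.single j 1)) = u j ^ n := fun j =>
        Units.ext (by simp [χu, hu j])
      calc χ (Multiplicative.ofAdd v) = (χu (Multiplicative.ofAdd v) : K) := rfl
        _ = _ := by rw [h1]; simp_rw [h2]
    rw [show v = Multiplicative.ofAdd v.toAdd from rfl, key]
    simp only [MonoidHom.pow_apply, χ', MonoidHom.coe_mk, OneHom.coe_mk, toAdd_ofAdd]
    rw [← Units.val_pow_eq_pow_val, ← Finset.prod_pow]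
    congr 1
    refine Finset.prod_congr rfl fun j _ => ?_
    rw [← zpow_natCast, ← zpow_natCast, ← zpow_mul, ← zpow_mul, mul_comm]
  let z := (DiagGrp.bcPointMulEquiv σ G T).symm (DiagGrp.dsPoint (Fin r → ℤ) q χ' ≫ iL.inv)
  have hz : z ^ n = x := by
    apply (DiagGrp.bcPointMulEquiv σ G T).injective
    rw [map_pow, MulEquiv.apply_symm_apply, ← cancel_mono iL.hom, MonObj.pow_comp, Category.assoc,
      Iso.inv_hom_id, Category.comp_id, ← map_pow, hpow, hχ]
    rfl
  refine ⟨z.left (IsLocalRing.closedPoint K), ?_⟩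
  have h1 : z ≫ (𝟙 G) ^ n = x := by rw [MonObj.comp_pow, Category.comp_id, hz]
  exact (congrArg (fun (w : (Over.map σ).obj T ⟶ G) => w.left (IsLocalRing.closedPoint K)) h1).trans
    (G.left.fromSpecResidueField_apply y _)

/-- The rational points of a torus are divisible. -/
theorem torus_divisible {T : Over S₀} [GrpObj T] (hT : Red.IsTorus T) {n : ℕ} (hn : 0 < n)
    (t : Over.mk (𝟙 S₀) ⟶ T) : ∃ s : Over.mk (𝟙 S₀) ⟶ T, s ^ n = t := by
  haveI := (isAffine_of_isTorus hT).2
  haveI := surjective_pow_torus hT hn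
  let p : T ⟶ T := (𝟙 T) ^ n
  let P := pullback p.left t.left
  let q : P ⟶ S₀ := pullback.snd p.left t.left
  haveI : LocallyOfFiniteType p.left := by
    haveI : LocallyOfFiniteType (p.left ≫ T.hom) := by rw [Over.w p]; infer_instance
    exact locallyOfFiniteType_of_comp p.left T.hom
  haveI : Surjective p.left := ‹_›
  haveI : Surjective q := inferInstanceAs (Surjective (pullback.snd p.left t.left))
  haveI : LocallyOfFiniteType q := inferInstanceAs (LocallyOfFiniteType (pullback.snd p.left t.left))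
  haveI : JacobsonSpace P := LocallyOfFiniteType.jacobsonSpace q
  obtain ⟨z, -⟩ := q.surjective (IsLocalRing.closedPoint k)
  obtain ⟨w, -, hw⟩ : ∃ w : P, w ∈ Set.univ ∧ w ∈ closedPoints P :=
    nonempty_inter_closedPoints ⟨z, trivial⟩ isClosed_univ.isLocallyClosed
  let s₀ := pointOfClosedPoint q w hw
  have hs₀ : s₀ ≫ q = 𝟙 _ := pointOfClosedPoint_comp q w hw
  let s : Over.mk (𝟙 S₀) ⟶ T := Over.homMk (s₀ ≫ pullback.fst p.left t.left) (by
    calc (s₀ ≫ pullback.fst p.left t.left) ≫ T.hom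
        = s₀ ≫ pullback.fst p.left t.left ≫ p.left ≫ T.hom := by rw [Category.assoc, Over.w p]
      _ = s₀ ≫ q ≫ t.left ≫ T.hom := by rw [pullback.condition_assoc]
      _ = 𝟙 S₀ := by rw [← Category.assoc, hs₀, Category.id_comp, Over.w t]; rfl)
  refine ⟨s, ?_⟩
  have h1 : s ≫ p = t := by
    apply Over.OverMorphism.ext
    show (s₀ ≫ pullback.fst p.left t.left) ≫ p.left = t.left
    rw [Category.assoc, pullback.condition, ← Category.assoc, hs₀, Category.id_comp]
  rwa [MonObj.comp_pow, Category.comp_id] at h1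

end GrothLib.OneMotFaith14
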