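import Groth.Prelude.Def_OneMot
import Groth.Agent.Lib.DiagGrp.Points
import Mathlib.Algebra.Group.Equiv.TypeTags
import Mathlib.AlgebraicGeometry.AlgClosed.Basic

/-!
# Lattices over an algebraically closed field
-/

set_option autoImplicit false
set_option linter.all false
set_option backward.isDefEq.respectTransparency false

universe u

open CategoryTheory CategoryTheory.Limits MonoidalCategory CartesianMonoidalCategory MonObj GrpObj AlgebraicGeometry

namespace GrothLib.OneMotFaith14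

variable {k : Type u} [Field k] [IsAlgClosed k]

local notation "S₀" => Spec (CommRingCat.of k)

/-- Over an algebraically closed field the rational points of a lattice form a free abelian group of finite rank
and they cover the lattice. -/
theorem lattice_points' {L : Over S₀} [GrpObj L] (hL : OneMot.IsLattice L) :
    ∃ (r : ℕ) (φ : Multiplicative (Fin r → ℤ) ≃* (Over.mk (𝟙 S₀) ⟶ L)),
      (∀ {Y : Over S₀} (a b : L ⟶ Y), (∀ v, φ v ≫ a = φ v ≫ b) → a = b) ∧
      ∀ {Y : Over S₀} (p : Multiplicative (Fin r → ℤ) → (Over.mk (𝟙 S₀) ⟶ Y)), ∃ a : L ⟶ Y, ∀ v, φ v ≫ a = p v := by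
  obtain ⟨S', f, hf, ⟨z', -⟩, r, e, he⟩ := hL (IsLocalRing.closedPoint k)
  haveI := hf
  haveI : LocallyOfFiniteType f := inferInstance
  haveI : JacobsonSpace S' := LocallyOfFiniteType.jacobsonSpace f
  obtain ⟨w, -, hw⟩ : ∃ w : S', w ∈ Set.univ ∧ w ∈ closedPoints S' :=
    nonempty_inter_closedPoints ⟨z', trivial⟩ isClosed_univ.isLocallyClosed
  let s := pointOfClosedPoint f w hw
  have hs : s ≫ f = 𝟙 _ := pointOfClosedPoint_comp f w hw
  let M := Multiplicative (Fin r → ℤ)
  let j : Over.mk (𝟙 S₀) ⟶ (Over.map f).obj (𝟙_ (Over S')) :=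
    Over.homMk s (by show s ≫ 𝟙 S' ≫ f = 𝟙 S₀; rw [Category.id_comp, hs])
  let x : M → (Over.mk (𝟙 S₀) ⟶ L) := fun m =>
    j ≫ (DiagGrp.bcPointMulEquiv f L (𝟙_ (Over S'))).symm (TwC.pt S' M m ≫ e.inv)
  have hxleft : ∀ m, (x m).left =
      s ≫ Sigma.ι (fun _ : M => S') m ≫ e.inv.left ≫ pullback.fst L.hom f := fun m => by
    have hb := (DiagGrp.bcPointMulEquiv f L (𝟙_ (Over S'))).apply_symm_apply (TwC.pt S' M m ≫ e.inv)
    set g := (DiagGrp.bcPointMulEquiv f L (𝟙_ (Over S'))).symm (TwC.pt S' M m ≫ e.inv) with hg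
    show s ≫ g.left = _
    congr 1
  have hmul : ∀ m n, x (m * n) = x m * x n := fun m n => by
    simp only [x]
    rw [← he m n, map_mul, MonObj.comp_mul]
  let q : L.left ⟶ ∐ (fun _ : M => S') :=
    pullback.lift (𝟙 L.left) (L.hom ≫ s) (by rw [Category.id_comp, Category.assoc, hs, Category.comp_id]) ≫ e.hom.left
  have hq : q ≫ e.inv.left ≫ pullback.fst L.hom f = 𝟙 L.left := by
    have h1 : e.hom.left ≫ e.inv.left = 𝟙 _ := by rw [← Over.comp_left, e.hom_inv_id]; rfl
    simp only [q, Category.assoc]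
    rw [reassoc_of% h1]
    exact pullback.lift_fst _ _ _
  have hqs : q ≫ Sigma.desc (fun _ : M => 𝟙 S') = L.hom ≫ s := by
    have h1 : e.hom.left ≫ Sigma.desc (fun _ : M => 𝟙 S') = pullback.snd L.hom f := Over.w e.hom
    simp only [q, Category.assoc]
    rw [show e.hom.left ≫ Sigma.desc (fun _ : M => 𝟙 S') = _ from h1]
    exact pullback.lift_snd _ _ _
  have hloc : ∀ z : L.left, ∃ (m : M) (U : L.left.Opens), z ∈ U ∧ U.ι = (U.ι ≫ L.hom) ≫ (x m).left := by
    intro z
    obtain ⟨m, y, hy⟩ := (sigmaOpenCover (fun _ : M => S')).exists_eq (q.base z)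
    let ιm : S' ⟶ ∐ (fun _ : M => S') := Sigma.ι (fun _ : M => S') m
    refine ⟨m, q ⁻¹ᵁ ιm.opensRange, ⟨y, hy⟩, ?_⟩
    set U := q ⁻¹ᵁ ιm.opensRange
    have hsub : Set.range (U.ι ≫ q).base ⊆ Set.range ιm.base := by
      rintro _ ⟨⟨v, hv⟩, rfl⟩
      exact hv
    let g : (U : Scheme.{u}) ⟶ S' := IsOpenImmersion.lift ιm (U.ι ≫ q) hsub
    have hg : g ≫ ιm = U.ι ≫ q := IsOpenImmersion.lift_fac _ _ _
    have hg2 : g = U.ι ≫ L.hom ≫ s := by
      have := congrArg (· ≫ Sigma.desc (fun _ : M => 𝟙 S')) hg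
      simpa [ιm, Category.assoc, hqs] using this
    calc U.ι = U.ι ≫ q ≫ e.inv.left ≫ pullback.fst L.hom f := by rw [hq, Category.comp_id]
      _ = g ≫ ιm ≫ e.inv.left ≫ pullback.fst L.hom f := by rw [← Category.assoc, ← hg, Category.assoc]
      _ = _ := by rw [hg2, hxleft]; simp only [ιm, Category.assoc]
  have hpq : ∀ m, (x m).left ≫ q = s ≫ Sigma.ι (fun _ : M => S') m := fun m => by
    have hx1 : (x m).left ≫ L.hom = 𝟙 _ := Over.w (x m)
    have h2 : (x m).left ≫ pullback.lift (𝟙 L.left) (L.hom ≫ s) (by rw [Category.id_comp, Category.assoc, hs, Category.comp_id]) =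
        s ≫ Sigma.ι (fun _ : M => S') m ≫ e.inv.left := by
      apply pullback.hom_ext
      · simp only [Category.assoc, pullback.lift_fst, Category.comp_id]
        exact hxleft m
      · simp only [Category.assoc, pullback.lift_snd]
        rw [reassoc_of% hx1, show e.inv.left ≫ pullback.snd L.hom f = Sigma.desc (fun _ : M => 𝟙 S') from Over.w e.inv]
        simp
    simp only [q, reassoc_of% h2]
    rw [← Over.comp_left, e.inv_hom_id]
    show s ≫ Sigma.ι (fun _ : M => S') m ≫ 𝟙 _ = _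
    rw [Category.comp_id]
  have hinj : Function.Injective x := by
    intro m n hmn
    have h3 := congrArg (fun g : S₀ ⟶ ∐ (fun _ : M => S') => g.base (IsLocalRing.closedPoint k))
      ((hpq m).symm.trans ((congrArg (fun w => w.left ≫ q) hmn).trans (hpq n)))
    simp only [Scheme.Hom.comp_apply] at h3
    have := (sigmaι_eq_iff _ _ _ _ _).1 h3
    exact (Sigma.mk.inj_iff.1 this).1
  have hsurj : Function.Surjective x := by
    intro p
    obtain ⟨m, U, hzU, hU⟩ := hloc (p.left.base (IsLocalRing.closedPoint k))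
    refine ⟨m, Over.OverMorphism.ext ?_⟩
    have hsub : Set.range p.left.base ⊆ Set.range U.ι.base := by
      rintro _ ⟨v, rfl⟩
      rw [Scheme.Opens.range_ι, show v = IsLocalRing.closedPoint k from Subsingleton.elim (α := PrimeSpectrum k) _ _]
      exact hzU
    have hl := IsOpenImmersion.lift_fac U.ι p.left hsub
    calc (x m).left = 𝟙 _ ≫ (x m).left := (Category.id_comp _).symm
      _ = (p.left ≫ L.hom) ≫ (x m).left := by rw [show p.left ≫ L.hom = 𝟙 _ from Over.w p]
      _ = IsOpenImmersion.lift U.ι p.left hsub ≫ (U.ι ≫ L.hom) ≫ (x m).left := by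
          simp only [← Category.assoc, hl]
      _ = p.left := by rw [← hU, hl]
  refine ⟨r, MulEquiv.mk (Equiv.ofBijective x ⟨hinj, hsurj⟩) hmul, fun {Y} a b h => ?_, fun {Y} p => ?_⟩
  swap
  · have hw : ∀ m : M, (f ≫ (p m).left) ≫ Y.hom = f := fun m => by
      rw [Category.assoc, Over.w (p m)]
      exact Category.comp_id f
    refine ⟨Over.homMk (q ≫ Sigma.desc (fun m : M => f ≫ (p m).left)) ?_, fun m => Over.OverMorphism.ext ?_⟩
    · have h1 : Sigma.desc (fun m : M => f ≫ (p m).left) ≫ Y.hom = Sigma.desc (fun _ : M => 𝟙 S') ≫ f :=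
        Sigma.hom_ext _ _ fun m => by
          rw [Sigma.ι_desc_assoc, Sigma.ι_desc_assoc, Category.id_comp]; exact hw m
      rw [Category.assoc, h1, reassoc_of% hqs, hs]
      exact Category.comp_id _
    · show (x m).left ≫ q ≫ Sigma.desc (fun m : M => f ≫ (p m).left) = (p m).left
      rw [reassoc_of% (hpq m), Sigma.ι_desc, ← Category.assoc, hs]; exact Category.id_comp _
  apply Over.OverMorphism.ext
  refine Scheme.hom_ext_of_forall _ _ fun z => ?_
  obtain ⟨m, U, hzU, hU⟩ := hloc z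
  refine ⟨U, hzU, ?_⟩
  rw [hU, Category.assoc, Category.assoc (U.ι ≫ L.hom), Category.assoc, Category.assoc U.ι]
  exact congrArg (fun w : Over.mk (𝟙 S₀) ⟶ Y => U.ι ≫ L.hom ≫ w.left) (h m)

theorem lattice_points {L : Over S₀} [GrpObj L] (hL : OneMot.IsLattice L) :
    ∃ (r : ℕ) (φ : Multiplicative (Fin r → ℤ) ≃* (Over.mk (𝟙 S₀) ⟶ L)),
      ∀ {Y : Over S₀} (a b : L ⟶ Y), (∀ v, φ v ≫ a = φ v ≫ b) → a = b := by
  obtain ⟨r, φ, h, -⟩ := lattice_points' hL
  exact ⟨r, φ, h⟩

end GrothLib.OneMotFaith14
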