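import Groth.Agent.Lib.OneMotFaith14.Points
import Groth.Agent.Lib.OneMotFaith14.Lattice
import Groth.Agent.Lib.AbTors.Kill
import Groth.Agent.Lib.Rigidity.AbImage
import Groth.Agent.Lib.Rigidity.Smooth.Torus
import Groth.Agent.Lib.Rigidity.SmoothGroup
import Groth.Agent.Lib.DiagGrp.SubgroupEq

/-!
# Semi-abelian groups over an algebraically closed field: divisibility, homomorphisms killing torsion
-/

set_option autoImplicit false
set_option linter.all false
set_option backward.isDefEq.respectTransparency false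

universe u

open CategoryTheory CategoryTheory.Limits MonoidalCategory CartesianMonoidalCategory MonObj GrpObj AlgebraicGeometry

namespace GrothLib.OneMotFaith14

section Sheaf

variable {S : Scheme.{u}} {G H : Over S} [GrpObj G] [IsCommMonObj G] [GrpObj H] [IsCommMonObj H]

theorem injective_of_mono (j : G ⟶ H) [IsMonHom j] (hj : Mono (CGrpSh.ptsMap Scheme.fppfPrecoverage j))
    {X : Over S} {a b : X ⟶ G} (h : a ≫ j = b ≫ j) : a = b := by
  haveI : Mono ((sheafToPresheaf (MultLift16.top S) AddCommGrpCat.{u + 1}).map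
      (CGrpSh.ptsMap Scheme.fppfPrecoverage j)) := inferInstance
  have h1 := (NatTrans.mono_iff_mono_app
    ((sheafToPresheaf (MultLift16.top S) AddCommGrpCat.{u + 1}).map (CGrpSh.ptsMap Scheme.fppfPrecoverage j))).1
    inferInstance (Opposite.op X)
  have h2 := (AddCommGrpCat.mono_iff_injective _).1 h1
  have h3 := @h2 (ULift.up (Additive.ofMul a)) (ULift.up (Additive.ofMul b)) (ULift.ext _ _ (congrArg Additive.ofMul h))
  exact congrArg (fun z => z.down.toMul) h3

/-- A morphism killed by the projection factors through the kernel. -/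
theorem exists_factor {T G A : Over S} [GrpObj T] [IsCommMonObj T] [GrpObj G] [IsCommMonObj G] [GrpObj A]
    [IsCommMonObj A] {incl : T ⟶ G} {proj : G ⟶ A} [IsMonHom incl] [IsMonHom proj]
    (h : OneMot.IsSemiAbWith T G A incl proj) {X : Over S} (x : X ⟶ G) (hx : x ≫ proj = 1) :
    ∃ z : X ⟶ T, z ≫ incl = x := by
  obtain ⟨R, hR, hz⟩ := MultLift16.exact_locally incl proj h.comp h.shortExact.exact X x hx
  choose z hz using hz
  obtain ⟨a, ha⟩ := MultLift16.glue hR z fun U₁ U₂ W g₁ g₂ f₁ f₂ h₁ h₂ e =>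
    injective_of_mono incl h.shortExact.mono_f (by
      rw [Category.assoc, Category.assoc, hz, hz, ← Category.assoc, ← Category.assoc, e])
  exact ⟨a, MultLift16.hom_ext_locally hR fun U f hf => by rw [← Category.assoc, ha f hf, hz]⟩

end Sheaf

variable {k : Type u} [Field k] [IsAlgClosed k]

local notation "S₀" => Spec (CommRingCat.of k)

theorem geometricallyIntegral_of_isAbelianSch {A : Over S₀} [GrpObj A] (hA : OneMot.IsAbelianSch A) :
    GeometricallyIntegral A.hom := by
  haveI := hA.smooth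
  haveI := hA.connectedFibres (IsLocalRing.closedPoint k)
  haveI : Surjective (Scheme.fromSpecResidueField (S₀) (IsLocalRing.closedPoint k)) :=
    ⟨fun y => ⟨IsLocalRing.closedPoint _, Subsingleton.elim (α := PrimeSpectrum k) _ _⟩⟩
  haveI : Surjective (A.hom.fiberι (IsLocalRing.closedPoint k)) :=
    inferInstanceAs (Surjective (pullback.fst A.hom (Scheme.fromSpecResidueField (S₀) (IsLocalRing.closedPoint k))))
  haveI : ConnectedSpace A.left :=
    (A.hom.fiberι (IsLocalRing.closedPoint k)).surjective.connectedSpace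
      (A.hom.fiberι (IsLocalRing.closedPoint k)).continuous
  haveI : GeometricallyReduced A.hom := Rigidity.geometricallyReduced_of_smooth A.hom
  exact Rigidity.geometricallyIntegral_of_connected A

variable [CharZero k] {T G A : Over (Spec (CommRingCat.of k))} [GrpObj T] [IsCommMonObj T] [GrpObj G] [IsCommMonObj G] [GrpObj A]
  [IsCommMonObj A] {incl : T ⟶ G} {proj : G ⟶ A} [IsMonHom incl] [IsMonHom proj]

/-- The rational points of a semi-abelian group are divisible. -/
theorem semiAb_divisible (h : OneMot.IsSemiAbWith T G A incl proj) {n : ℕ} (hn : 0 < n)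
    (t : Over.mk (𝟙 S₀) ⟶ G) : ∃ g : Over.mk (𝟙 S₀) ⟶ G, g ^ n = t := by
  haveI := h.abelian.proper
  haveI := geometricallyIntegral_of_isAbelianSch h.abelian
  obtain ⟨b, hb⟩ := AbTors.exists_pow_eq A (𝟙 S₀) (n := n) (by exact_mod_cast hn.ne') (t ≫ proj)
  obtain ⟨g, hg⟩ := exists_lift proj h.shortExact.epi_g b
  obtain ⟨z, hz⟩ := exists_factor h ((g ^ n)⁻¹ * t) (by
    rw [MonObj.mul_comp, GrpObj.inv_comp, MonObj.pow_comp, hg, hb, inv_mul_cancel])
  obtain ⟨s, hs⟩ := torus_divisible h.torus hn z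
  refine ⟨g * (s ≫ incl), ?_⟩
  rw [mul_pow, ← MonObj.pow_comp, hs, hz, mul_inv_cancel_left]

/-- A homomorphism of semi-abelian groups killing the rational torsion points is trivial. -/
theorem semiAb_hom_eq_one {T' G' A' : Over (Spec (CommRingCat.of k))} [GrpObj T'] [IsCommMonObj T'] [GrpObj G'] [IsCommMonObj G']
    [GrpObj A'] [IsCommMonObj A'] {incl' : T' ⟶ G'} {proj' : G' ⟶ A'} [IsMonHom incl'] [IsMonHom proj']
    (h : OneMot.IsSemiAbWith T G A incl proj) (h' : OneMot.IsSemiAbWith T' G' A' incl' proj')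
    (w : G ⟶ G') [IsMonHom w]
    (hw : ∀ (m : ℕ), 1 ≤ m → ∀ t : Over.mk (𝟙 S₀) ⟶ G, t ^ m = 1 → t ≫ w = 1) : w = 1 := by
  haveI := h.abelian.proper
  haveI := geometricallyIntegral_of_isAbelianSch h.abelian
  haveI := h'.abelian.proper
  obtain ⟨hTa, hTf⟩ := isAffine_of_isTorus h'.torus
  haveI := hTa; haveI := hTf
  haveI : IsAffineHom T'.hom := isAffineHom_of_isAffine _
  haveI : IsSeparated T'.hom := inferInstance
  -- the torus part
  have hv : incl ≫ w = 1 := by
    have h1 : (incl ≫ w) ≫ proj' = 1 := Rigidity.hom_eq_one_of_isTorus T A' h.torus _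
    obtain ⟨v, hv⟩ := exists_factor h' (incl ≫ w) h1
    haveI : IsMonHom v := DiagGrp.isMonHom_of_points v fun Y a b => injective_of_mono incl' h'.shortExact.mono_f (by
      simp only [Category.assoc, hv, MonObj.mul_comp])
    have hv1 : v = 1 := torus_hom_eq_one h.torus h'.torus v fun m hm t ht =>
      injective_of_mono incl' h'.shortExact.mono_f (by
        rw [Category.assoc, hv, MonObj.one_comp, ← Category.assoc]
        exact hw m hm _ (by rw [← MonObj.pow_comp]; exact (congrArg (· ≫ incl) ht).trans (MonObj.one_comp _)))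
    rw [← hv, hv1, MonObj.one_comp]
  -- descend to the abelian quotient
  obtain ⟨φ, hφ, -⟩ := MultLift16.descend proj w (MultLift16.lift_locally proj h.shortExact.epi_g) fun X a a' e => by
    obtain ⟨z, hz⟩ := exists_factor h (a * a'⁻¹) (by rw [MonObj.mul_comp, GrpObj.inv_comp, e, mul_inv_cancel])
    have h2 := congrArg (· ≫ w) hz
    simp only [Category.assoc, hv, MonObj.comp_one, MonObj.mul_comp, GrpObj.inv_comp] at h2
    exact mul_inv_eq_one.1 h2.symm
  have hkill : ∀ (n : ℕ) (a : Over.mk (𝟙 S₀) ⟶ A), a ^ (2 ^ n) = 1 → a ≫ φ = 1 := fun n a ha => by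
    obtain ⟨t, ht⟩ := exists_lift proj h.shortExact.epi_g a
    obtain ⟨z, hz⟩ := exists_factor h (t ^ (2 ^ n)) (by rw [MonObj.pow_comp, ht, ha])
    obtain ⟨s, hs⟩ := torus_divisible h.torus (pow_pos two_pos n) z
    have h2 := hw (2 ^ n) Nat.one_le_two_pow (t * (s ≫ incl)⁻¹) (by
      rw [mul_pow, inv_pow, ← MonObj.pow_comp, hs, hz, mul_inv_cancel])
    rw [MonObj.mul_comp, GrpObj.inv_comp, Category.assoc, hv, MonObj.comp_one, inv_one, _root_.mul_one] at h2
    rw [← ht, Category.assoc, hφ, h2]
  have h3 : φ ≫ proj' = 1 := AbTors.eq_one_of_forall_tors (𝟙 S₀) one_lt_two (by norm_num) _ fun n a ha => by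
    rw [← Category.assoc, hkill n a ha, MonObj.one_comp]
  obtain ⟨ψ, hψ⟩ := exists_factor h' φ h3
  have h4 : ψ = 1 := AbTors.eq_one_of_forall_tors (𝟙 S₀) one_lt_two (by norm_num) _ fun n a ha =>
    injective_of_mono incl' h'.shortExact.mono_f (by rw [Category.assoc, hψ, MonObj.one_comp, hkill n a ha])
  rw [← hφ, ← hψ, h4, MonObj.one_comp, MonObj.comp_one]

end GrothLib.OneMotFaith14
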