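import Mathlib.LinearAlgebra.Dual.Lemmas
import Mathlib.Algebra.Module.ZMod
import Mathlib.Algebra.Field.ZMod

/-!
# Functionals on elementary abelian groups
-/

set_option autoImplicit false

universe u

namespace GrothLib.OneMotFaith14

theorem exists_dual_ne_zero_zmod {p : ℕ} [Fact p.Prime] (V : Type u) [AddCommGroup V] [Module (ZMod p) V]
    {x : V} (hx : x ≠ 0) : ∃ ψ : V →+ ZMod p, ψ x ≠ 0 := by
  let b := Module.Free.chooseBasis (ZMod p) V
  have : b.repr x ≠ 0 := fun h => hx (b.repr.map_eq_zero_iff.1 h)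
  obtain ⟨i, hi⟩ := Finsupp.ne_iff.1 this
  exact ⟨(b.coord i).toAddMonoidHom, hi⟩

/-- A non-zero element of a group of exponent `p` is detected by a homomorphism to `ZMod p`. -/
theorem exists_addHom_ne_zero {p : ℕ} [Fact p.Prime] (V : Type u) [AddCommGroup V] (hV : ∀ z : V, p • z = 0)
    {x : V} (hx : x ≠ 0) : ∃ ψ : V →+ ZMod p, ψ x ≠ 0 := by
  letI : Module (ZMod p) V := AddCommGroup.zmodModule hV
  exact exists_dual_ne_zero_zmod V hx

end GrothLib.OneMotFaith14
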