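import Groth.Agent.Lib.OneMotFaith14.Points
import Groth.Agent.Lib.OneMotFaith14.ModP
import Mathlib.RingTheory.Finiteness.Nakayama
import Mathlib.LinearAlgebra.Dual.Lemmas

/-!
# Homomorphisms of tori injective on torsion points have retractions
-/

set_option autoImplicit false
set_option linter.all false
set_option backward.isDefEq.respectTransparency false

universe u

open CategoryTheory CategoryTheory.Limits MonoidalCategory CartesianMonoidalCategory MonObj GrpObj AlgebraicGeometry
open WithConv
open scoped TensorProduct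

namespace GrothLib.OneMotFaith14

open GrothLib.MultHopf14 GrothLib.CentMT14

/-- A finitely generated commutative group without non-trivial characters of prime order is trivial. -/
theorem eq_top_of_forall_char {k : Type u} [Field k] [IsAlgClosed k] [CharZero k] {N : Type u} [CommGroup N]
    [Group.FG N] (H : Subgroup N)
    (h : ∀ (p : ℕ), p.Prime → ∀ χ : N →* kˣ, (∀ x, χ x ^ p = 1) → (∀ x ∈ H, χ x = 1) → χ = 1) : H = ⊤ := by
  let Q := Additive (N ⧸ H)
  haveI : Module.Finite ℤ Q := Module.Finite.iff_addGroup_fg.2 inferInstance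
  have hp : ∀ p : ℕ, p.Prime → ∀ x : Q, ∃ y, p • y = x := by
    intro p hpp
    by_contra hne
    push_neg at hne
    obtain ⟨x₀, hx₀⟩ := hne
    haveI := Fact.mk hpp
    let P : AddSubgroup Q := (nsmulAddMonoidHom p).range
    have hV : ∀ z : Q ⧸ P, p • z = 0 := fun z => by
      obtain ⟨z, rfl⟩ := QuotientAddGroup.mk_surjective z
      rw [← QuotientAddGroup.mk_nsmul, QuotientAddGroup.eq_zero_iff]
      exact ⟨z, rfl⟩
    have hx : (x₀ : Q ⧸ P) ≠ 0 := fun h0 => by
      obtain ⟨y, hy⟩ := (QuotientAddGroup.eq_zero_iff _).1 h0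
      exact hx₀ y hy
    obtain ⟨ψ, hψ⟩ := exists_addHom_ne_zero (p := p) (Q ⧸ P) hV hx
    obtain ⟨ζ, hζ⟩ := HasEnoughRootsOfUnity.exists_primitiveRoot k p
    let z : kˣ := (hζ.isUnit hpp.ne_zero).unit
    have hz : IsPrimitiveRoot z p := hζ.isUnit_unit hpp.ne_zero
    let e : ZMod p →+ Additive kˣ := ZMod.lift p ⟨zmultiplesHom _ (Additive.ofMul z), by
      rw [zmultiplesHom_apply, natCast_zsmul, ← ofMul_pow, hz.pow_eq_one]; rfl⟩
    have he : Function.Injective e := (ZMod.lift_injective _).2 fun m hm => by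
      rw [zmultiplesHom_apply, ← ofMul_zpow] at hm
      exact (ZMod.intCast_zmod_eq_zero_iff_dvd m p).2 ((hz.zpow_eq_one_iff_dvd m).1 hm)
    let q : Additive N →+ Q := MonoidHom.toAdditive (QuotientGroup.mk' H)
    let χ' : Additive N →+ Additive kˣ :=
      e.comp (ψ.comp ((QuotientAddGroup.mk' P).comp q))
    let χ : N →* kˣ := AddMonoidHom.toMultiplicative χ'
    have hχp : ∀ x, χ x ^ p = 1 := fun x => by
      have : p • χ' (Additive.ofMul x) = 0 := by
        show p • e _ = 0
        rw [← map_nsmul e, show ∀ a : ZMod p, p • a = 0 from fun a => by simp, map_zero]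
      exact congrArg Additive.toMul this
    have hχH : ∀ x ∈ H, χ x = 1 := fun x hx => by
      have hq : q (Additive.ofMul x) = 0 :=
        congrArg Additive.ofMul ((QuotientGroup.eq_one_iff x).2 hx)
      show Additive.toMul (e (ψ (QuotientAddGroup.mk' P (q (Additive.ofMul x))))) = 1
      rw [hq, map_zero, map_zero, map_zero]; rfl
    obtain ⟨x, hxq⟩ := QuotientGroup.mk'_surjective H x₀.toMul
    have h1 := congrArg Additive.ofMul (DFunLike.congr_fun (h p hpp χ hχp hχH) x)
    have h2 : e (ψ (x₀ : Q ⧸ P)) = 0 := by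
      have hq : q (Additive.ofMul x) = x₀ := congrArg Additive.ofMul hxq
      rw [← hq]
      exact h1
    exact hψ (he (h2.trans (map_zero e).symm))
  have hzero : ∀ x : Q, x = 0 := by
    obtain ⟨r, hr, hrQ⟩ := Submodule.exists_sub_one_mem_and_smul_eq_zero_of_fg_of_le_smul (Ideal.span {(2 : ℤ)})
      (⊤ : Submodule ℤ Q) Module.Finite.fg_top (fun x _ => by
        obtain ⟨y, rfl⟩ := hp 2 Nat.prime_two x
        rw [← natCast_zsmul]
        exact Submodule.smul_mem_smul (Ideal.mem_span_singleton_self _) trivial)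
    have hr0 : r ≠ 0 := by
      rintro rfl
      rw [zero_sub, Ideal.mem_span_singleton] at hr
      omega
    have key : ∀ n : ℕ, 0 < n → (∀ x : Q, n • x = 0) → ∀ x : Q, x = 0 := by
      intro n
      induction n using Nat.strong_induction_on with
      | _ n ih =>
        intro hn hkill
        rcases eq_or_ne n 1 with rfl | hn1
        · exact fun x => by simpa using hkill x
        · obtain ⟨p, hpp, s, rfl⟩ := Nat.exists_prime_and_dvd hn1
          have hs : 0 < s := Nat.pos_of_ne_zero (by rintro rfl; simp at hn)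
          refine ih s (lt_mul_of_one_lt_left hs hpp.one_lt) hs fun x => ?_
          obtain ⟨y, rfl⟩ := hp p hpp x
          rw [← mul_nsmul']
          exact mul_comm p s ▸ hkill y
    refine key r.natAbs (Int.natAbs_pos.2 hr0) fun x => ?_
    have h1 := hrQ x trivial
    rcases Int.natAbs_eq r with h2 | h2
    · rw [h2, natCast_zsmul] at h1; exact h1
    · rw [h2, neg_smul, natCast_zsmul, neg_eq_zero] at h1; exact h1
  exact eq_top_iff.2 fun x _ =>
    (QuotientGroup.eq_one_iff x).1 (congrArg Additive.toMul (hzero (Additive.ofMul (x : N ⧸ H))))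

variable {k : Type u} [Field k] [IsAlgClosed k]

local notation "S₀" => Spec (CommRingCat.of k)

/-- A homomorphism of tori which is injective on the rational torsion points has a retraction. -/
theorem torus_retraction [CharZero k] {T T' : Over (Spec (CommRingCat.of k))} [GrpObj T] [GrpObj T']
    (hT : Red.IsTorus T) (hT' : Red.IsTorus T') (v : T ⟶ T') [IsMonHom v]
    (h : ∀ (m : ℕ), 1 ≤ m → ∀ t : Over.mk (𝟙 (Spec (CommRingCat.of k))) ⟶ T, t ^ m = 1 → t ≫ v = 1 → t = 1) :
    ∃ ρ : T' ⟶ T, IsMonHom ρ ∧ v ≫ ρ = 𝟙 T := by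
  obtain ⟨hTa, hTf⟩ := isAffine_of_isTorus hT
  haveI := hTa; haveI := hTf
  obtain ⟨hTa', hTf'⟩ := isAffine_of_isTorus hT'
  haveI := hTa'; haveI := hTf'
  haveI := TorusNorm25.smooth_of_isTorus hT
  haveI := (Rigidity.smooth_connected_of_isTorus T hT).2
  obtain ⟨A, _, _, ⟨eG⟩⟩ := exists_hopf T' (isAffineHom_of_isAffine _)
  obtain ⟨K, _, _, ⟨eT⟩⟩ := exists_hopf T (isAffineHom_of_isAffine _)
  let i : specGrp (R := k) K ≅ T := (Grp.forget _).mapIso eT
  haveI : IsIso i.hom.left := inferInstanceAs (IsIso ((Over.forget _).map i.hom))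
  haveI : IsIso i.inv.left := inferInstanceAs (IsIso ((Over.forget _).map i.inv))
  haveI : Algebra.FiniteType k K := by
    have h : LocallyOfFiniteType (specGrp (R := k) K).hom := by rw [← Over.w i.hom]; infer_instance
    exact RingHom.finiteType_algebraMap.1 ((HasRingHomProperty.Spec_iff (P := @LocallyOfFiniteType)).1 h)
  haveI : IsDomain K := by
    haveI := GrothLib.Rigidity.irreducibleSpace_of_connected T
    haveI : IsReduced T.left := GrothLib.RedSmooth.isReduced_of_smooth T.hom
    haveI : IsIntegral T.left := isIntegral_of_irreducibleSpace_of_isReduced _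
    haveI : IsIntegral (Spec (CommRingCat.of K)) := .of_isIso i.inv.left
    exact (affine_isIntegral_iff (CommRingCat.of K)).1 inferInstance
  have hK : HopfRep.IsDiagonalizable k K := isDiagonalizable_torus eT hT
  have hA : HopfRep.IsDiagonalizable k A := isDiagonalizable_torus eG hT'
  -- the homomorphism on functions
  let eT' := eT.hom
  let q : (hopfSpec (CommRingCat.of k)).obj (Opposite.op (CommHopfAlgCat.of k K)) ⟶
      (hopfSpec (CommRingCat.of k)).obj (Opposite.op (CommHopfAlgCat.of k A)) := eT.hom ≫ Grp.ofHom v ≫ eG.inv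
  haveI : (hopfSpec (CommRingCat.of k)).Full := hopfSpec.instFull
  obtain ⟨ψ, hψ⟩ := (hopfSpec (CommRingCat.of k)).map_surjective q
  let θ : A →ₐc[k] K := ψ.unop.hom
  have hθ : specMap θ = i.hom ≫ v ≫ eG.inv.hom.hom :=
    Over.OverMorphism.ext (congrArg (fun w => w.hom.hom.left) hψ)
  haveI : IsMonHom i.hom := eT.hom.hom.isMonHom_hom
  haveI : IsMonHom i.inv := eT.inv.hom.isMonHom_hom
  haveI : IsMonHom eG.inv.hom.hom := eG.inv.hom.isMonHom_hom
  haveI : IsMonHom eG.hom.hom.hom := eG.hom.hom.isMonHom_hom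
  have he : eG.inv.hom.hom ≫ eG.hom.hom.hom = 𝟙 T' := congrArg (fun w => w.hom.hom) eG.inv_hom_id
  haveI := CharFG28.fg_groupLike k K
  haveI : Group.FG (GroupLike k K) := CharFG28.fg_groupLike k K
  -- the map on characters
  let Φ : GroupLike k A →* GroupLike k K :=
    { toFun := fun g => ⟨θ (g : A), g.2.map θ⟩
      map_one' := GroupLike.val_injective (by simp)
      map_mul' := fun g g' => GroupLike.val_injective (by simp) }
  let b : Over.mk (𝟙 S₀) ⟶ (Spec (CommRingCat.of k)).asOver (Spec (CommRingCat.of k)) :=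
    Over.homMk (𝟙 _) (by
      show 𝟙 _ ≫ Spec.map (CommRingCat.ofHom (algebraMap k k)) = 𝟙 _
      rw [Category.id_comp, Algebra.algebraMap_self]
      exact Spec.map_id _)
  have hsurj : Φ.range = ⊤ := eq_top_of_forall_char (k := k) _ fun p hp χ hχp hχ => by
    obtain ⟨φ, hφ⟩ := Flag27.exists_point hK ((Units.coeHom k).comp χ)
    have hone : ∀ g : GroupLike k K, (1 : WithConv (K →ₐ[k] k)) (g : K) = 1 := fun g => by
      show algebraMap k k (Coalgebra.counit (R := k) (g : K)) = 1
      rw [g.2.1, map_one]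
    have hφp : φ ^ p = 1 := Flag27.conv_ext_groupLike hK fun g => by
      rw [Flag27.conv_pow_groupLike, hφ, hone]
      exact (map_pow (Units.coeHom k) (χ g) p).symm.trans (by rw [hχp]; exact map_one _)
    let p₀ : Over.mk (𝟙 S₀) ⟶ T := b ≫ (Spec.mapMulEquiv φ : _ ⟶ specGrp (R := k) K) ≫ i.hom
    have hpp : p₀ ^ p = 1 := by
      simp only [p₀]
      rw [← MonObj.comp_pow, ← MonObj.pow_comp, ← map_pow, hφp, map_one, MonObj.one_comp, MonObj.comp_one]
    have hcomp : (φ.ofConv : K →+* k).comp (θ : A →+* K) = (Bialgebra.counitAlgHom k A).toRingHom := by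
      refine RingHom.ext fun a => ?_
      show φ.ofConv (θ a) = Coalgebra.counit (R := k) a
      have ha : a ∈ Submodule.span k {a : A | IsGroupLikeElem k a} := (show Submodule.span k _ = ⊤ from hA) ▸ trivial
      induction ha using Submodule.span_induction with
      | mem c hc =>
        rw [hc.1]
        exact (hφ (Φ ⟨c, hc⟩)).trans (congrArg Units.val (hχ _ ⟨⟨c, hc⟩, rfl⟩))
      | zero => simp
      | add c d _ _ h1 h2 => simp [h1, h2]
      | smul r c _ h1 => simp [h1]
    have hv : p₀ ≫ v = 1 := by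
      have h2 : (p₀ ≫ v) ≫ eG.inv.hom.hom = 1 := by
        simp only [p₀, Category.assoc]
        rw [← hθ]
        refine Over.OverMorphism.ext ?_
        rw [one_left]
        show 𝟙 _ ≫ Spec.map (CommRingCat.ofHom φ.ofConv.toRingHom) ≫ Spec.map (CommRingCat.ofHom (θ : A →+* K)) =
          𝟙 _ ≫ Spec.map _
        rw [← Spec.map_comp, ← CommRingCat.ofHom_comp]
        exact congrArg (fun r => 𝟙 _ ≫ Spec.map (CommRingCat.ofHom r)) hcomp
      have h3 := congrArg (fun w => w ≫ eG.hom.hom.hom) h2
      simpa [Category.assoc, he, MonObj.one_comp] using h3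
    have h4 := h p hp.one_lt.le p₀ hpp hv
    have h5 : φ = 1 := by
      have h6 : b ≫ (Spec.mapMulEquiv φ : _ ⟶ specGrp (R := k) K) = 1 := by
        rw [← cancel_mono i.hom, Category.assoc, MonObj.one_comp]
        exact h4
      have h7 := congrArg Over.Hom.left h6
      rw [one_left] at h7
      have h8 : Spec.map (CommRingCat.ofHom φ.ofConv.toRingHom) =
          Spec.map (CommRingCat.ofHom (Bialgebra.counitAlgHom k K).toRingHom) :=
        (Category.id_comp _).symm.trans (h7.trans (Category.id_comp _))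
      refine Flag27.conv_ext_groupLike hK fun g => ?_
      rw [hone g, ← g.2.1]
      exact DFunLike.congr_fun (congrArg CommRingCat.Hom.hom (Spec.map_injective h8)) (g : K)
    refine MonoidHom.ext fun g => Units.ext ?_
    have h9 := hφ g
    rw [h5, hone] at h9
    exact h9.symm
  -- the section
  haveI : IsMulTorsionFree (GroupLike k K) := by
    refine ⟨fun m hm g g' hgg => ?_⟩
    have h1 : (g / g') ^ m = 1 := by
      rw [div_pow]; exact div_eq_one.2 hgg
    have hint : IsIntegral k ((g / g' : GroupLike k K) : K) := IsIntegral.of_pow (Nat.pos_of_ne_zero hm) (by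
      rw [← GroupLike.val_pow, h1, GroupLike.val_one]; exact isIntegral_one)
    haveI : Algebra.IsIntegral k (Algebra.adjoin k {((g / g' : GroupLike k K) : K)}) :=
      Algebra.IsIntegral.adjoin (by rintro y rfl; exact hint)
    obtain ⟨c, hc⟩ := (IsAlgClosed.algebraMap_bijective_of_isIntegral (k := k)
      (K := Algebra.adjoin k {((g / g' : GroupLike k K) : K)})).2 ⟨_, Algebra.subset_adjoin rfl⟩
    have hc' : algebraMap k K c = ((g / g' : GroupLike k K) : K) := congrArg Subtype.val hc
    have hcc : c = 1 := by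
      have := (g / g').2.1
      rw [← hc', Bialgebra.counit_algebraMap] at this
      exact this
    exact div_eq_one.1 (GroupLike.val_injective (by rw [← hc', hcc, map_one, GroupLike.val_one]))
  haveI : Module.Finite ℤ (Additive (GroupLike k K)) := Module.Finite.iff_addGroup_fg.2 inferInstance
  haveI : Module.Free ℤ (Additive (GroupLike k K)) := Module.free_of_finite_type_torsion_free'
  obtain ⟨s, hs⟩ := Module.projective_lifting_property (MonoidHom.toAdditive Φ).toIntLinearMap LinearMap.id
    (fun x => by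
      obtain ⟨g, hg⟩ : x.toMul ∈ Φ.range := hsurj ▸ trivial
      exact ⟨Additive.ofMul g, congrArg Additive.ofMul hg⟩)
  let sm : GroupLike k K →* GroupLike k A := AddMonoidHom.toMultiplicative s.toAddMonoidHom
  have hsm : ∀ g, θ (sm g : A) = g := fun g => by
    exact congrArg (fun x => GroupLike.val (Additive.toMul x)) (LinearMap.congr_fun hs (Additive.ofMul g))
  have hE : Function.Bijective (MonoidAlgebra.liftGroupLikeBialgHom (R := k) (A := K)) := by
    refine ⟨CharFG28.liftGroupLike_injective k K, fun a => ?_⟩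
    have ha : a ∈ Submodule.span k {a : K | IsGroupLikeElem k a} := (show Submodule.span k _ = ⊤ from hK) ▸ trivial
    induction ha using Submodule.span_induction with
    | mem c hc => exact ⟨MonoidAlgebra.single ⟨c, hc⟩ 1, by simp⟩
    | zero => exact ⟨0, map_zero _⟩
    | add c d _ _ hc hd =>
      obtain ⟨c', rfl⟩ := hc
      obtain ⟨d', rfl⟩ := hd
      exact ⟨c' + d', map_add _ _ _⟩
    | smul r c _ hc =>
      obtain ⟨c', rfl⟩ := hc
      exact ⟨r • c', map_smul _ _ _⟩
  let E := BialgEquiv.ofBijective _ hE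
  let σ : K →ₐc[k] A := (MonoidAlgebra.liftGroupLikeBialgHom (R := k) (A := A)).comp
    ((MonoidAlgebra.mapDomainBialgHom k sm).comp (E.symm : K →ₐc[k] _))
  have hσ : ∀ a, θ (σ a) = a := by
    intro a
    obtain ⟨z, rfl⟩ := hE.2 a
    have hz : (E.symm : K →ₐc[k] _) (MonoidAlgebra.liftGroupLikeBialgHom (R := k) (A := K) z) = z :=
      E.symm_apply_apply z
    show θ (MonoidAlgebra.liftGroupLikeBialgHom (R := k) (A := A) (MonoidAlgebra.mapDomainBialgHom k sm
      ((E.symm : K →ₐc[k] _) (MonoidAlgebra.liftGroupLikeBialgHom (R := k) (A := K) z)))) = _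
    rw [hz]
    clear hz
    induction z using MonoidAlgebra.induction_linear with
    | zero => simp
    | add x y hx hy => simp only [map_add, hx, hy]
    | single m r => simp [hsm]
  refine ⟨eG.inv.hom.hom ≫ specMap σ ≫ i.hom, inferInstance, ?_⟩
  have h10 : specMap θ ≫ specMap σ = 𝟙 _ := by
    refine Over.OverMorphism.ext ?_
    rw [comp_specMap_left, specMap_left, ← Spec.map_comp, ← CommRingCat.ofHom_comp]
    show _ = 𝟙 (Spec (CommRingCat.of K))
    rw [show (θ : A →+* K).comp (σ : K →+* A) = RingHom.id K from RingHom.ext hσ]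
    exact Spec.map_id _
  rw [← cancel_epi i.hom, Category.comp_id]
  calc i.hom ≫ v ≫ eG.inv.hom.hom ≫ specMap σ ≫ i.hom
      = (i.hom ≫ v ≫ eG.inv.hom.hom) ≫ specMap σ ≫ i.hom := by simp only [Category.assoc]
    _ = i.hom := by rw [← hθ, reassoc_of% h10]

end GrothLib.OneMotFaith14
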