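import Groth.Agent.Lib.OneMotFaith14.Torsion
import Groth.Agent.Lib.OneMotFaith14.TorusSplit
import Groth.Agent.Lib.AbTors.FiniteKer
import Groth.Agent.Lib.Rigidity.Isogeny
import Groth.Agent.Lib.Rigidity.Hom
import Groth.Agent.Lib.Rigidity.PointsExt
import Groth.Agent.Lib.Rigidity.Field
import Groth.Agent.Lib.EssFree.Subgroup
import Groth.Agent.Lib.DiagGrp.KernelFP
import Groth.Agent.Lib.GrpSchField.Criteria
import Mathlib.AlgebraicGeometry.Morphisms.FlatMono

/-!
# Homomorphisms of semi-abelian groups which are injective or bijective on torsion points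
-/

set_option autoImplicit false
set_option linter.all false
set_option backward.isDefEq.respectTransparency false

universe u

open CategoryTheory CategoryTheory.Limits MonoidalCategory CartesianMonoidalCategory MonObj GrpObj AlgebraicGeometry

namespace GrothLib.OneMotFaith14

variable {k : Type u} [Field k] [IsAlgClosed k]

local notation "S₀" => Spec (CommRingCat.of k)

variable [CharZero k] {T G A T' G' A' : Over (Spec (CommRingCat.of k))} [GrpObj T] [IsCommMonObj T] [GrpObj G]
  [IsCommMonObj G] [GrpObj A] [IsCommMonObj A] [GrpObj T'] [IsCommMonObj T'] [GrpObj G'] [IsCommMonObj G']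
  [GrpObj A'] [IsCommMonObj A'] {incl : T ⟶ G} {proj : G ⟶ A} [IsMonHom incl] [IsMonHom proj]
  {incl' : T' ⟶ G'} {proj' : G' ⟶ A'} [IsMonHom incl'] [IsMonHom proj']

/-- Torsion points of the abelian quotient lift to torsion points. -/
theorem exists_torsion_lift (h : OneMot.IsSemiAbWith T G A incl proj) {m : ℕ} (hm : 0 < m)
    (a : Over.mk (𝟙 (Spec (CommRingCat.of k))) ⟶ A) (ha : a ^ m = 1) :
    ∃ t : Over.mk (𝟙 (Spec (CommRingCat.of k))) ⟶ G, t ^ m = 1 ∧ t ≫ proj = a := by
  obtain ⟨t, ht⟩ := exists_lift proj h.shortExact.epi_g a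
  obtain ⟨z, hz⟩ := exists_factor h (t ^ m) (by rw [MonObj.pow_comp, ht, ha])
  obtain ⟨s, hs⟩ := torus_divisible h.torus hm z
  refine ⟨t * (s ≫ incl)⁻¹, ?_, ?_⟩
  · rw [mul_pow, inv_pow, ← MonObj.pow_comp, hs, hz, mul_inv_cancel]
  · rw [MonObj.mul_comp, GrpObj.inv_comp, Category.assoc, h.comp, MonObj.comp_one, inv_one, _root_.mul_one, ht]

/-- The parts of a homomorphism of semi-abelian groups injective on torsion points: the map of tori has a
retraction and the map of abelian quotients is finite. -/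
theorem exists_parts (h : OneMot.IsSemiAbWith T G A incl proj) (h' : OneMot.IsSemiAbWith T' G' A' incl' proj')
    (w : G ⟶ G') [IsMonHom w]
    (hinj : ∀ (m : ℕ), 1 ≤ m → ∀ t : Over.mk (𝟙 (Spec (CommRingCat.of k))) ⟶ G, t ^ m = 1 → t ≫ w = 1 → t = 1) :
    ∃ (v : T ⟶ T') (φ : A ⟶ A') (ρ : T' ⟶ T), IsMonHom v ∧ IsMonHom φ ∧ IsMonHom ρ ∧
      v ≫ incl' = incl ≫ w ∧ proj ≫ φ = w ≫ proj' ∧ v ≫ ρ = 𝟙 T ∧ IsFinite φ.left := by
  haveI := h.abelian.proper
  haveI := geometricallyIntegral_of_isAbelianSch h.abelian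
  haveI := h'.abelian.proper
  have h1 : (incl ≫ w) ≫ proj' = 1 := Rigidity.hom_eq_one_of_isTorus T A' h.torus _
  obtain ⟨v, hv⟩ := exists_factor h' (incl ≫ w) h1
  haveI : IsMonHom v := DiagGrp.isMonHom_of_points v fun Y a b => injective_of_mono incl' h'.shortExact.mono_f (by
    simp only [Category.assoc, hv, MonObj.mul_comp])
  obtain ⟨ρ, hρm, hρ⟩ := torus_retraction h.torus h'.torus v fun m hm t ht htv =>
    injective_of_mono incl h.shortExact.mono_f (by
      rw [MonObj.one_comp]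
      refine hinj m hm _ (by rw [← MonObj.pow_comp, ht, MonObj.one_comp]) ?_
      rw [Category.assoc, ← hv, ← Category.assoc, htv, MonObj.one_comp])
  haveI := hρm
  obtain ⟨φ, hφ, -⟩ := MultLift16.descend proj (w ≫ proj') (MultLift16.lift_locally proj h.shortExact.epi_g)
    fun X a a' e => by
      obtain ⟨z, hz⟩ := exists_factor h (a * a'⁻¹) (by rw [MonObj.mul_comp, GrpObj.inv_comp, e, mul_inv_cancel])
      have h2 := congrArg (· ≫ (w ≫ proj')) hz
      simp only [Category.assoc, MonObj.mul_comp, GrpObj.inv_comp] at h2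
      rw [show incl ≫ w ≫ proj' = 1 by rw [← Category.assoc]; exact h1, MonObj.comp_one] at h2
      exact mul_inv_eq_one.1 h2.symm
  haveI : IsMonHom φ := Rigidity.isMonHom_of_one_comp φ (by
    rw [← IsMonHom.one_hom proj, Category.assoc, hφ, ← Category.assoc, IsMonHom.one_hom, IsMonHom.one_hom])
  refine ⟨v, φ, ρ, inferInstance, inferInstance, inferInstance, hv, hφ, hρ, ?_⟩
  haveI : IsAffine T'.left := (isAffine_of_isTorus h'.torus).1
  refine AbTors.isFinite_of_forall_subgroup φ fun C gC _ _ i _ _ hi => ?_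
  haveI : IsCommMonObj C := GrothLib.Cube.isCommMonObj_abVar (A := C)
  haveI : IsIntegral C.left := GeometricallyIntegral.isIntegral_of_subsingleton C.hom
  haveI : Mono i := by
    haveI : Mono ((Over.forget _).map i) := inferInstanceAs (Mono i.left)
    exact (Over.forget _).mono_of_mono_map inferInstance
  let Z : Over S₀ := Over.mk (pullback.fst proj.left i.left ≫ G.hom)
  let a : Z ⟶ G := Over.homMk (pullback.fst proj.left i.left) rfl
  let c : Z ⟶ C := Over.homMk (pullback.snd proj.left i.left) (by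
    show pullback.snd proj.left i.left ≫ C.hom = pullback.fst proj.left i.left ≫ G.hom
    rw [← Over.w i, ← Over.w proj, pullback.condition_assoc])
  have hac : a ≫ proj = c ≫ i := Over.OverMorphism.ext pullback.condition
  obtain ⟨z, hz⟩ := exists_factor h' (a ≫ w) (by
    rw [Category.assoc, ← hφ, ← Category.assoc, hac, Category.assoc, hi, MonObj.comp_one])
  have hlift : ∀ {X : Over S₀} (x : X ⟶ G) (y : X ⟶ C), x ≫ proj = y ≫ i → ∃ b : X ⟶ Z, b ≫ a = x ∧ b ≫ c = y := by
    intro X x y e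
    refine ⟨Over.homMk (pullback.lift x.left y.left (congrArg Over.Hom.left e)) ?_, Over.OverMorphism.ext ?_,
      Over.OverMorphism.ext ?_⟩
    · show pullback.lift x.left y.left _ ≫ pullback.fst proj.left i.left ≫ G.hom = X.hom
      rw [pullback.lift_fst_assoc, Over.w x]
    · exact pullback.lift_fst _ _ _
    · exact pullback.lift_snd _ _ _
  obtain ⟨η', hη', -⟩ := MultLift16.descend c (z * (z ≫ ρ ≫ v)⁻¹)
    (fun X y => by
      obtain ⟨R, hR, hl⟩ := MultLift16.lift_locally proj h.shortExact.epi_g X (y ≫ i)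
      refine ⟨R, hR, fun U f hf => ?_⟩
      obtain ⟨x, hx⟩ := hl f hf
      obtain ⟨b, -, hb⟩ := hlift x (f ≫ y) (by rw [hx, Category.assoc])
      exact ⟨b, hb⟩)
    fun X b b' e => by
      obtain ⟨d, hd⟩ := exists_factor h ((b ≫ a) * (b' ≫ a)⁻¹) (by
        rw [MonObj.mul_comp, GrpObj.inv_comp, Category.assoc, Category.assoc, hac, ← Category.assoc, e,
          ← Category.assoc, mul_inv_cancel])
      have hd' : d ≫ v = (b ≫ z) * (b' ≫ z)⁻¹ := injective_of_mono incl' h'.shortExact.mono_f (by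
        rw [Category.assoc, hv, ← Category.assoc, hd, MonObj.mul_comp, GrpObj.inv_comp, MonObj.mul_comp,
          GrpObj.inv_comp]
        simp only [Category.assoc, hz])
      have h2 : (d ≫ v) ≫ ρ ≫ v = d ≫ v := by
        rw [Category.assoc, reassoc_of% hρ]
      rw [hd', MonObj.mul_comp, GrpObj.inv_comp] at h2
      simp only [MonObj.comp_mul, GrpObj.comp_inv, Category.assoc] at h2 ⊢
      rw [← div_eq_mul_inv, ← div_eq_mul_inv] at h2 ⊢
      rw [div_eq_div_iff_div_eq_div]
      exact h2.symm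
  -- the morphism to the torus is constant
  have hone : η' = 1 := by
    obtain ⟨b₀, hb₀a, hb₀c⟩ := hlift (1 : 𝟙_ (Over S₀) ⟶ G) (1 : 𝟙_ (Over S₀) ⟶ C)
      (by rw [MonObj.one_comp, MonObj.one_comp])
    have hz0 : b₀ ≫ z = 1 := injective_of_mono incl' h'.shortExact.mono_f (by
      rw [Category.assoc, hz, ← Category.assoc, hb₀a, MonObj.one_comp, MonObj.one_comp])
    have h0 : (1 : 𝟙_ (Over S₀) ⟶ C) ≫ η' = 1 := by
      rw [← hb₀c, Category.assoc, hη', MonObj.comp_mul, GrpObj.comp_inv, ← Category.assoc, hz0, MonObj.one_comp,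
        inv_one, _root_.mul_one]
    have h3 : η' = toUnit C ≫ (1 : 𝟙_ (Over S₀) ⟶ C) ≫ η' := by
      apply Over.OverMorphism.ext
      have := Rigidity.eq_comp_section_of_isAffine C.hom (1 : 𝟙_ (Over S₀) ⟶ C).left
        (Over.w (1 : 𝟙_ (Over S₀) ⟶ C)) η'.left
      exact this
    rw [h3, h0, MonObj.comp_one]
  have hzρ : z = z ≫ ρ ≫ v := by
    have := hη'.symm
    rw [hone, MonObj.comp_one, mul_inv_eq_one] at this
    exact this
  -- the subgroup has no torsion
  have hkill : ∀ (n : ℕ) (a₀ : Over.mk (𝟙 S₀) ⟶ C), a₀ ^ (2 ^ n) = 1 → a₀ ≫ 𝟙 C = 1 := by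
    intro n a₀ ha₀
    rw [Category.comp_id]
    obtain ⟨t, ht1, ht2⟩ := exists_torsion_lift h (pow_pos two_pos n) (a₀ ≫ i)
      (by rw [← MonObj.pow_comp, ha₀, MonObj.one_comp])
    obtain ⟨b, hba, -⟩ := hlift t a₀ ht2
    have e1 : (b ≫ z) ≫ incl' = t ≫ w := by rw [Category.assoc, hz, ← Category.assoc, hba]
    have e2 : ((b ≫ z ≫ ρ) ≫ incl) ≫ w = t ≫ w := by
      conv_rhs => rw [← e1, hzρ]
      simp only [Category.assoc, hv]
    have e3 : (b ≫ z ≫ ρ) ^ (2 ^ n) = 1 := by
      have : (b ≫ z) ^ (2 ^ n) = 1 := injective_of_mono incl' h'.shortExact.mono_f (by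
        rw [MonObj.pow_comp, e1, ← MonObj.pow_comp, ht1, MonObj.one_comp, MonObj.one_comp])
      rw [← Category.assoc, ← MonObj.pow_comp, this, MonObj.one_comp]
    have e4 := hinj (2 ^ n) Nat.one_le_two_pow (t * ((b ≫ z ≫ ρ) ≫ incl)⁻¹)
      (by rw [mul_pow, inv_pow, ← MonObj.pow_comp, e3, ht1, MonObj.one_comp, inv_one, _root_.mul_one])
      (by rw [MonObj.mul_comp, GrpObj.inv_comp, e2, mul_inv_cancel])
    have e5 := congrArg (· ≫ proj) (mul_inv_eq_one.1 e4)
    simp only [Category.assoc, h.comp, MonObj.comp_one] at e5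
    rw [ht2] at e5
    rw [← cancel_mono i, e5, MonObj.one_comp]
  have hid : 𝟙 C = 1 := AbTors.eq_one_of_forall_tors (𝟙 S₀) one_lt_two (by norm_num) _ hkill
  have hp : ∀ x : C.left, x = η[C].left (IsLocalRing.closedPoint k) := fun x => by
    have h5 : (𝟙 C : C ⟶ C).left x = (toUnit C ≫ η[C]).left x := by rw [hid, Hom.one_def]
    refine (show x = (𝟙 C : C ⟶ C).left x from rfl).trans (h5.trans ?_)
    show η[C].left ((toUnit C).left x) = _
    exact congrArg η[C].left (Subsingleton.elim (α := PrimeSpectrum k) _ _)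
  exact ⟨fun x y => (hp x).trans (hp y).symm⟩

/-- A homomorphism injective on torsion points is injective on rational points. -/
theorem semiAb_injective (h : OneMot.IsSemiAbWith T G A incl proj) (h' : OneMot.IsSemiAbWith T' G' A' incl' proj')
    (w : G ⟶ G') [IsMonHom w]
    (hinj : ∀ (m : ℕ), 1 ≤ m → ∀ t : Over.mk (𝟙 (Spec (CommRingCat.of k))) ⟶ G, t ^ m = 1 → t ≫ w = 1 → t = 1)
    (g : Over.mk (𝟙 (Spec (CommRingCat.of k))) ⟶ G) (hg : g ≫ w = 1) : g = 1 := by
  obtain ⟨v, φ, ρ, _, _, _, hv, hφ, hρ, _⟩ := exists_parts h h' w hinj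
  let ψ : (Over.mk (𝟙 S₀) ⟶ A) →* (Over.mk (𝟙 S₀) ⟶ A') :=
    { toFun := fun a => a ≫ φ
      map_one' := MonObj.one_comp φ
      map_mul' := fun a b => MonObj.mul_comp a b φ }
  haveI : Finite ψ.ker := ((AbTors.finite_ker_pts (𝟙 S₀) φ).subset fun a ha => ha).to_subtype
  have hmem : g ≫ proj ∈ ψ.ker := by
    show (g ≫ proj) ≫ φ = 1
    rw [Category.assoc, hφ, ← Category.assoc, hg, MonObj.one_comp]
  obtain ⟨n, hn, hgn⟩ := isOfFinOrder_iff_pow_eq_one.1 (isOfFinOrder_of_finite (⟨_, hmem⟩ : ψ.ker))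
  have hgn' : (g ≫ proj) ^ n = 1 := congrArg Subtype.val hgn
  obtain ⟨z, hz⟩ := exists_factor h (g ^ n) (by rw [MonObj.pow_comp, hgn'])
  have hzv : z ≫ v = 1 := injective_of_mono incl' h'.shortExact.mono_f (by
    rw [Category.assoc, hv, ← Category.assoc, hz, MonObj.pow_comp, hg, one_pow, MonObj.one_comp])
  have hz1 : z = 1 := by
    rw [← Category.comp_id z, ← hρ, ← Category.assoc, hzv, MonObj.one_comp]
  exact hinj n hn g (by rw [← hz, hz1, MonObj.one_comp]) hg

/-- A homomorphism bijective on torsion points is an isomorphism. -/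
theorem semiAb_isIso (h : OneMot.IsSemiAbWith T G A incl proj) (h' : OneMot.IsSemiAbWith T' G' A' incl' proj')
    (w : G ⟶ G') [IsMonHom w]
    (hinj : ∀ (m : ℕ), 1 ≤ m → ∀ t : Over.mk (𝟙 (Spec (CommRingCat.of k))) ⟶ G, t ^ m = 1 → t ≫ w = 1 → t = 1)
    (hsurj : ∀ (m : ℕ), 1 ≤ m → ∀ s : Over.mk (𝟙 (Spec (CommRingCat.of k))) ⟶ G', s ^ m = 1 →
      ∃ t, t ^ m = 1 ∧ t ≫ w = s) : IsIso w := by
  haveI := h.abelian.proper
  haveI := geometricallyIntegral_of_isAbelianSch h.abelian
  haveI := h'.abelian.proper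
  haveI := geometricallyIntegral_of_isAbelianSch h'.abelian
  obtain ⟨v, φ, ρ, _, _, _, hv, hφ, hρ, _⟩ := exists_parts h h' w hinj
  let ψ : (Over.mk (𝟙 S₀) ⟶ A) →* (Over.mk (𝟙 S₀) ⟶ A') :=
    { toFun := fun a => a ≫ φ
      map_one' := MonObj.one_comp φ
      map_mul' := fun a b => MonObj.mul_comp a b φ }
  haveI : Finite ψ.ker := ((AbTors.finite_ker_pts (𝟙 S₀) φ).subset fun a ha => ha).to_subtype
  -- the map of tori is an isomorphism
  let ω : T' ⟶ T' := 𝟙 T' * (ρ ≫ v)⁻¹
  haveI : IsMonHom ω := DiagGrp.isMonHom_of_points ω fun Y a b => by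
    simp only [ω, MonObj.comp_mul, GrpObj.comp_inv, MonObj.mul_comp, _root_.mul_inv, Category.comp_id]
    exact mul_mul_mul_comm _ _ _ _
  have hρv : ρ ≫ v = 𝟙 T' := by
    have hω : ω = 1 := torus_hom_eq_one h'.torus h'.torus ω fun m hm s₀ hs₀ => by
      have hN : 0 < Nat.card ψ.ker := Nat.card_pos
      obtain ⟨s, hs⟩ := torus_divisible h'.torus hN s₀
      have hsm : s ^ (Nat.card ψ.ker * m) = 1 := by rw [pow_mul, hs, hs₀]
      obtain ⟨t, ht, htw⟩ := hsurj _ (Nat.mul_pos hN hm) (s ≫ incl') (by rw [← MonObj.pow_comp, hsm, MonObj.one_comp])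
      have hmem : t ≫ proj ∈ ψ.ker := by
        show (t ≫ proj) ≫ φ = 1
        rw [Category.assoc, hφ, ← Category.assoc, htw, Category.assoc, h'.comp, MonObj.comp_one]
      have h6 : (t ≫ proj) ^ Nat.card ψ.ker = 1 := congrArg Subtype.val (pow_card_eq_one' (x := (⟨_, hmem⟩ : ψ.ker)))
      obtain ⟨z, hz⟩ := exists_factor h (t ^ Nat.card ψ.ker) (by rw [MonObj.pow_comp, h6])
      have hzv : z ≫ v = s₀ := injective_of_mono incl' h'.shortExact.mono_f (by
        rw [Category.assoc, hv, ← Category.assoc, hz, MonObj.pow_comp, htw, ← MonObj.pow_comp, hs])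
      simp only [ω, MonObj.comp_mul, GrpObj.comp_inv, Category.comp_id]
      rw [← hzv, mul_inv_eq_one, Category.assoc, reassoc_of% hρ]
    exact (mul_inv_eq_one.1 hω).symm
  -- the map of abelian varieties is an isomorphism
  haveI : Surjective φ.left := by
    haveI : IsProper φ.left := by
      have : IsProper (φ.left ≫ A'.hom) := by rw [Over.w]; infer_instance
      exact IsProper.of_comp φ.left A'.hom
    refine ⟨fun y => ?_⟩
    have hd := AbTors.dense_primePowTors A' (l := 2) one_lt_two (by norm_num)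
    have hsub : (fun a => Cube.ptOf a) '' AbTors.primePowTors A' 2 ⊆ Set.range φ.left := by
      rintro _ ⟨a, ⟨n, hn⟩, rfl⟩
      obtain ⟨t', ht', ht'a⟩ := exists_torsion_lift h' (pow_pos two_pos n) a hn
      obtain ⟨t, -, htw⟩ := hsurj _ Nat.one_le_two_pow t' ht'
      refine ⟨Cube.ptOf (t ≫ proj), ?_⟩
      have e : (t ≫ proj) ≫ φ = a := by rw [Category.assoc, hφ, ← Category.assoc, htw, ht'a]
      rw [← e]
      rfl
    have hc : IsClosed (Set.range φ.left) := φ.left.isClosedMap.isClosed_range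
    exact closure_minimal hsub hc (hd y)
  have hφinj : ∀ a : 𝟙_ (Over S₀) ⟶ A, a ≫ φ = 1 → a = 1 := fun a ha => by
    obtain ⟨t, ht⟩ := exists_lift proj h.shortExact.epi_g a
    obtain ⟨zz, hzz⟩ := exists_factor h' (t ≫ w) (by rw [Category.assoc, ← hφ, ← Category.assoc, ht]; exact ha)
    have h7 := semiAb_injective h h' w hinj (t * (zz ≫ ρ ≫ incl)⁻¹) (by
      rw [MonObj.mul_comp, GrpObj.inv_comp]
      simp only [Category.assoc]
      rw [← hv, reassoc_of% hρv, hzz, mul_inv_cancel])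
    rw [mul_inv_eq_one] at h7
    rw [← ht, h7]
    simp only [Category.assoc, h.comp, MonObj.comp_one]
  haveI : Mono φ := by
    haveI : IsClosedImmersion η[A'].left := DiagGrp.isClosedImmersion_one A'
    let N : Over S₀ := Over.mk (pullback.fst φ.left η[A'].left ≫ A.hom)
    let n : N ⟶ A := Over.homMk (pullback.fst φ.left η[A'].left) rfl
    haveI : IsClosedImmersion n.left := inferInstanceAs (IsClosedImmersion (pullback.fst φ.left η[A'].left))
    haveI : Mono n := by
      haveI : Mono ((Over.forget _).map n) := inferInstanceAs (Mono n.left)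
      exact (Over.forget _).mono_of_mono_map inferInstance
    have hnφ : n ≫ φ = 1 := by
      rw [Hom.one_def]
      apply Over.OverMorphism.ext
      have hu : (toUnit N).left = pullback.snd φ.left η[A'].left := by
        have h8 := congrArg (· ≫ A'.hom) (pullback.condition (f := φ.left) (g := η[A'].left))
        simp only [Category.assoc, Over.w φ, Over.w η[A']] at h8
        exact (Category.comp_id _).symm.trans ((Over.w (toUnit N)).trans h8)
      show pullback.fst φ.left η[A'].left ≫ φ.left = (toUnit N).left ≫ η[A'].left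
      rw [hu, pullback.condition]
    have hl : ∀ {X : Over S₀} (g : X ⟶ A), g ≫ φ = 1 → ∃ z : X ⟶ N, z ≫ n = g := fun {X} g hg => by
      have h9 : g.left ≫ φ.left = X.hom ≫ η[A'].left := by
        rw [← Over.comp_left, hg, Hom.one_def]; rfl
      refine ⟨Over.homMk (pullback.lift g.left X.hom h9) ?_, Over.OverMorphism.ext (pullback.lift_fst _ _ _)⟩
      show pullback.lift g.left X.hom h9 ≫ pullback.fst φ.left η[A'].left ≫ A.hom = X.hom
      rw [pullback.lift_fst_assoc, Over.w g]
    obtain ⟨_, _⟩ := EssFree.exists_grpObj_of_mono n (fun X => hl 1 (MonObj.one_comp φ))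
      (fun X a b => hl _ (by rw [MonObj.mul_comp, Category.assoc, Category.assoc, hnφ, MonObj.comp_one,
        MonObj.comp_one, _root_.mul_one]))
      (fun X a => hl _ (by rw [GrpObj.inv_comp, Category.assoc, hnφ, MonObj.comp_one, inv_one]))
    haveI : LocallyOfFiniteType N.hom := inferInstanceAs (LocallyOfFiniteType (n.left ≫ A.hom))
    haveI := GrpSchField.smooth_of_charZero N
    haveI : IsReduced N.left := Rigidity.isReduced_of_smooth N.hom
    have hn1 : n = 1 := Rigidity.ext_of_points n 1 fun p => by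
      rw [MonObj.comp_one]
      exact hφinj _ (by rw [Category.assoc, hnφ, MonObj.comp_one])
    refine ⟨fun a b e => ?_⟩
    obtain ⟨z, hz⟩ := hl (a * b⁻¹) (by rw [MonObj.mul_comp, GrpObj.inv_comp, e, mul_inv_cancel])
    rw [hn1, MonObj.comp_one] at hz
    exact mul_inv_eq_one.1 hz.symm
  haveI : Mono φ.left := inferInstanceAs (Mono ((Over.forget _).map φ))
  haveI := Rigidity.flat_of_isFinite A A' φ
  haveI : IsIso φ.left := Flat.isIso_of_surjective_of_mono φ.left
  haveI : IsIso φ := by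
    haveI : IsIso ((Over.forget _).map φ) := ‹IsIso φ.left›
    exact isIso_of_reflects_iso φ (Over.forget _)
  -- injectivity and surjectivity on all points
  have hwinj : ∀ {X : Over S₀} (x : X ⟶ G), x ≫ w = 1 → x = 1 := fun {X} x hx => by
    have h1 : x ≫ proj = 1 := by
      rw [← cancel_mono φ, Category.assoc, hφ, ← Category.assoc, hx, MonObj.one_comp, MonObj.one_comp]
    obtain ⟨z, rfl⟩ := exists_factor h x h1
    have h2 : z ≫ v = 1 := injective_of_mono incl' h'.shortExact.mono_f (by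
      rw [Category.assoc, hv, ← Category.assoc, hx, MonObj.one_comp])
    rw [← Category.comp_id z, ← hρ, ← Category.assoc z, h2, MonObj.one_comp, MonObj.one_comp]
  haveI : Mono w := ⟨fun a b e => mul_inv_eq_one.1 (hwinj _ (by
    rw [MonObj.mul_comp, GrpObj.inv_comp, e, mul_inv_cancel]))⟩
  obtain ⟨R, hR, hl⟩ := MultLift16.lift_locally proj h.shortExact.epi_g G' (proj' ≫ inv φ)
  have hlift : ∀ ⦃U : Over S₀⦄ (f : U ⟶ G'), R f → ∃ x : U ⟶ G, x ≫ w = f := by
    intro U f hf
    obtain ⟨x, hx⟩ := hl f hf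
    obtain ⟨zz, hzz⟩ := exists_factor h' (f * (x ≫ w)⁻¹) (by
      rw [MonObj.mul_comp, GrpObj.inv_comp, Category.assoc, ← hφ, ← Category.assoc, hx]
      simp)
    refine ⟨x * (zz ≫ ρ ≫ incl), ?_⟩
    rw [MonObj.mul_comp]
    simp only [Category.assoc]
    rw [← hv, reassoc_of% hρv, hzz, mul_left_comm, mul_inv_cancel, _root_.mul_one]
  choose x hx using hlift
  obtain ⟨u, hu⟩ := MultLift16.glue hR x fun U₁ U₂ W g₁ g₂ f₁ f₂ h₁ h₂ e => by
    rw [← cancel_mono w, Category.assoc, Category.assoc, hx, hx, e]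
  have huw : u ≫ w = 𝟙 G' := MultLift16.hom_ext_locally hR fun U f hf => by
    rw [← Category.assoc, hu f hf, hx, Category.comp_id]
  exact ⟨u, by rw [← cancel_mono w, Category.assoc, huw, Category.comp_id, Category.id_comp], huw⟩

end GrothLib.OneMotFaith14
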